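import Cfsg.Agent.H38.U6C.Stmts
import Cfsg.Agent.H82.U6Loc.Final

/-!
The coordinates in terms of coded matrices: the local data from the natural case.
-/

set_option autoImplicit false
set_option maxRecDepth 100000

namespace H38.U6C

open H82.U6Loc (ap mm mI tvA ev)

theorem vadd_val (a b : V) : (vadd a b).val = a.val ^^^ b.val :=
  Nat.mod_eq_of_lt (Nat.xor_lt_two_pow (n := 8) a.isLt b.isLt)

/-- The unit vector of index `k`. -/
def unitV (k : Fin 8) : V := ⟨2 ^ k.val % 256, Nat.mod_lt _ (by norm_num)⟩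

/-- The component of index `k`. -/
def selV (v : V) (k : Fin 8) : V := if v.val.testBit k.val then unitV k else 0

theorem selV_sum : ∀ v : V, v = vadd (selV v 0) (vadd (selV v 1) (vadd (selV v 2) (vadd (selV v 3)
    (vadd (selV v 4) (vadd (selV v 5) (vadd (selV v 6) (selV v 7))))))) := by decide +kernel

theorem qv_eq : ∀ v : V, qv v = H82.U6Loc.qv v.val := by decide +kernel

/-- A map respecting addition. -/
def IsAddV (σ : Equiv.Perm V) : Prop := ∀ a b, σ (vadd a b) = vadd (σ a) (σ b)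

theorem IsAddV.zero {σ : Equiv.Perm V} (h : IsAddV σ) : σ 0 = 0 := by
  have e : σ (vadd 0 0) = vadd (σ 0) (σ 0) := h 0 0
  rw [show vadd (0 : V) 0 = 0 by decide] at e
  rw [e]
  exact Fin.ext (by rw [vadd_val, Nat.xor_self]; rfl)

/-- The images of the unit vectors. -/
def cols (σ : Equiv.Perm V) : List ℕ :=
  [(σ (unitV 0)).val, (σ (unitV 1)).val, (σ (unitV 2)).val, (σ (unitV 3)).val, (σ (unitV 4)).val,
    (σ (unitV 5)).val, (σ (unitV 6)).val, (σ (unitV 7)).val]

theorem tv_cols : ∀ i : Fin 45, cols (tv i) = tvA i.val := by decide +kernel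

theorem cols_one : cols 1 = mI := by decide +kernel

theorem ap_eight (a b c d e f g k n : ℕ) : ap [a, b, c, d, e, f, g, k] n =
    (if n.testBit 0 then a else 0) ^^^ ((if n.testBit 1 then b else 0) ^^^
    ((if n.testBit 2 then c else 0) ^^^ ((if n.testBit 3 then d else 0) ^^^
    ((if n.testBit 4 then e else 0) ^^^ ((if n.testBit 5 then f else 0) ^^^
    ((if n.testBit 6 then g else 0) ^^^ (if n.testBit 7 then k else 0))))))) := by
  simp only [Nat.testBit_eq_decide_div_mod_eq, decide_eq_true_eq]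
  simp only [H82.U6Loc.ap, Nat.div_div_eq_div_mul, Nat.xor_zero]
  norm_num

theorem ap_cols {σ : Equiv.Perm V} (h : IsAddV σ) (v : V) : ap (cols σ) v.val = (σ v).val := by
  have hsel : ∀ k, (σ (selV v k)).val = if v.val.testBit k.val then (σ (unitV k)).val else 0 := by
    intro k
    unfold selV
    split_ifs
    · rfl
    · rw [h.zero]; rfl
  conv_rhs => rw [selV_sum v]
  rw [h, h, h, h, h, h, h]
  simp only [vadd_val]
  rw [hsel, hsel, hsel, hsel, hsel, hsel, hsel, hsel]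
  exact ap_eight _ _ _ _ _ _ _ _ v.val

theorem cols_inj {σ : Equiv.Perm V} (h : IsAddV σ) (e : cols σ = mI) : σ = 1 := by
  refine Equiv.ext fun v => Fin.ext ?_
  rw [← ap_cols h v, e, ← cols_one, ap_cols (σ := 1) (fun _ _ => rfl) v]

theorem cols_mul {σ τ : Equiv.Perm V} (h : IsAddV σ) : cols (σ * τ) = mm (cols σ) (cols τ) := by
  rw [show mm (cols σ) (cols τ) = [ap (cols σ) (τ (unitV 0)).val, ap (cols σ) (τ (unitV 1)).val,
    ap (cols σ) (τ (unitV 2)).val, ap (cols σ) (τ (unitV 3)).val, ap (cols σ) (τ (unitV 4)).val,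
    ap (cols σ) (τ (unitV 5)).val, ap (cols σ) (τ (unitV 6)).val, ap (cols σ) (τ (unitV 7)).val]
    from rfl]
  simp only [ap_cols h]
  rfl

variable {G : Type*} [Group G] {z : G} {J : Subgroup G} {φ : G → V}
  {ρ : ↥(Subgroup.centralizer ({z} : Set G)) →* Equiv.Perm V}

theorem Nat4.isAdd (h : Nat4 z J φ ρ) (g : ↥(Subgroup.centralizer ({z} : Set G))) : IsAddV (ρ g) := by
  intro a b
  obtain ⟨x, hx, rfl⟩ := h.φ_surj a
  obtain ⟨y, hy, rfl⟩ := h.φ_surj b
  rw [← h.φ_mul x hx y hy, ← h.ρ_φ g _ (mul_mem hx hy), ← h.ρ_φ g x hx, ← h.ρ_φ g y hy,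
    show (g : G) * (x * y) * (g : G)⁻¹ = ((g : G) * x * (g : G)⁻¹) * ((g : G) * y * (g : G)⁻¹) by
      group, h.φ_mul _ (h.conj_mem _ g.2 x hx) _ (h.conj_mem _ g.2 y hy)]

theorem Nat4.tv_isAdd (h : Nat4 z J φ ρ) (i : Fin 45) : IsAddV (tv i) := by
  have hm : tv i ∈ ρ.range := h.ρ_range.symm ▸ Subgroup.subset_closure ⟨i, rfl⟩
  obtain ⟨g, hg⟩ := hm
  exact hg ▸ h.isAdd g

theorem exists_word {σ : Equiv.Perm V} (hσ : σ ∈ uGroup) :
    ∃ w : List (Fin 45), σ = (w.map tv).prod := by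
  induction hσ using Subgroup.closure_induction with
  | mem x hx =>
    obtain ⟨i, rfl⟩ := hx
    exact ⟨[i], by simp⟩
  | one => exact ⟨[], rfl⟩
  | mul x y _ _ hx hy =>
    obtain ⟨v, rfl⟩ := hx
    obtain ⟨w, rfl⟩ := hy
    exact ⟨v ++ w, by rw [List.map_append, List.prod_append]⟩
  | inv x _ hx =>
    obtain ⟨w, rfl⟩ := hx
    refine ⟨w.reverse, ?_⟩
    induction w with
    | nil => simp
    | cons i w ih =>
      have hw : (w.map tv).prod ∈ uGroup := Subgroup.list_prod_mem _ fun y hy => by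
        obtain ⟨j, -, rfl⟩ := List.mem_map.1 hy
        exact Subgroup.subset_closure ⟨j, rfl⟩
      rw [List.map_cons, List.prod_cons, mul_inv_rev, ih hw, List.reverse_cons, List.map_append,
        List.prod_append]
      simp only [List.map_cons, List.map_nil, List.prod_cons, List.prod_nil, mul_one]
      congr 1

theorem Nat4.cols_word (h : Nat4 z J φ ρ) (w : List (Fin 45)) :
    cols (w.map tv).prod = ev (w.map Fin.val) := by
  induction w with
  | nil => exact cols_one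
  | cons i w ih =>
    rw [List.map_cons, List.prod_cons, cols_mul (h.tv_isAdd i), ih, tv_cols]
    rfl

open Classical in
/-- The local data of the natural case. -/
noncomputable def Nat4.toLocal (h : Nat4 z J φ ρ) (hw : WCJ z J) : H82.U6Loc.Local z J where
  vec a := (φ a).val
  act g := if hg : g ∈ Subgroup.centralizer ({z} : Set G) then cols (ρ ⟨g, hg⟩) else mI
  z_mem := h.z_mem
  J_le := h.le_cent
  J_norm g hg := Subgroup.mem_normalizer_iff.2 fun j => ⟨fun hj => h.conj_mem g hg j hj, fun hj => by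
    have := h.conj_mem g⁻¹ (inv_mem hg) _ hj
    simpa [mul_assoc] using this⟩
  card_J := h.card_J
  vec_lt a _ := (φ a).isLt
  vec_mul a ha b hb := by rw [h.φ_mul a ha b hb, vadd_val]
  vec_eq_zero a ha := by rw [← h.φ_ker a ha, Fin.ext_iff]; rfl
  sq a ha := by rw [h.φ_sq a ha, qv_eq]
  act_conj c hc a ha := by
    rw [dif_pos hc, ap_cols (h.isAdd _), ← h.ρ_φ ⟨c, hc⟩ a ha]
  act_mul c hc d hd := by
    rw [dif_pos hc, dif_pos hd, dif_pos (mul_mem hc hd), ← cols_mul (h.isAdd _), ← map_mul]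
    rfl
  act_one_iff c hc := by
    rw [dif_pos hc, ← h.ρ_ker ⟨c, hc⟩]
    exact ⟨cols_inj (h.isAdd _), fun e => by rw [e, cols_one]⟩
  act_surj i hi := by
    have hm : tv ⟨i, hi⟩ ∈ ρ.range := h.ρ_range.symm ▸ Subgroup.subset_closure ⟨_, rfl⟩
    obtain ⟨g, hg⟩ := hm
    exact ⟨g, g.2, by rw [dif_pos g.2, Subtype.coe_eta, hg, tv_cols]⟩
  act_word c hc := by
    obtain ⟨w, hw'⟩ := exists_word (σ := ρ ⟨c, hc⟩) (h.ρ_range ▸ MonoidHom.mem_range.2 ⟨_, rfl⟩)
    refine ⟨w.map Fin.val, fun i hi => ?_, by rw [dif_pos hc, hw', h.cols_word]⟩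
    obtain ⟨j, -, rfl⟩ := List.mem_map.1 hi
    exact j.isLt
  card_C := h.card_cent
  weak g hg := hw _ hg (isConj_iff.2 ⟨g, rfl⟩)

/-- The local data of the unitary group in the natural case. -/
theorem locStmt.{u} : LocStmt.{u} := by
  intro G _ _ z J φ ρ h hw hwc
  refine H82.U6Loc.loc (h.toLocal hw) ?_
  unfold WC at hwc
  push Not at hwc
  obtain ⟨a, ha, hconj, hne⟩ := hwc
  obtain ⟨g, rfl⟩ := isConj_iff.1 hconj
  exact ⟨g, ha, hne⟩

end H38.U6C
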