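import Cfsg.Agent.H38.U6C.Stmts
import Cfsg.Agent.H24.U6.Ident
import Cfsg.Agent.H85.BrauerSuzuki
import Cfsg.Agent.H6.Extraspecial
import Cfsg.Agent.H50.SpMultiplier
import Cfsg.Agent.H50.LeechUnitary
import Cfsg.Prelude.Def_CaseTheorems
import Cfsg.Prelude.Def_Transfer

/-!
Assembly: the recognition of the unitary group in dimension six from the separate parts.
-/

set_option autoImplicit false

namespace H38.U6C

open Cfsg

universe u v w

theorem card_psp2 {F : Type*} [Field F] [Fintype F] (hF : Fintype.card F = 3) :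
    Nat.card (Cfsg.PSp 2 F) = 25920 := by
  classical
  have h1 : Nat.card (Matrix.symplecticGroup (Fin 2) F) = 51840 := by
    rw [H48.card_sp, hF, Fintype.card_fin]
    norm_num [Finset.prod_range_succ]
  have h2 := H50.SpMult.card_center (F := F) (m := 2) (by norm_num)
  rw [hF] at h2
  norm_num [-Nat.card_eq_fintype_card] at h2
  have h3 := Subgroup.card_eq_card_quotient_mul_card_subgroup
    (Subgroup.center (Matrix.symplecticGroup (Fin 2) F))
  rw [h1, h2] at h3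
  show Nat.card (_ ⧸ _) = _
  omega

variable {G : Type u} [Group G] [Finite G]

theorem base_of_hyp {F : Type v} [Field F] [Fintype F] (hF : Fintype.card F = 3) (z : G)
    (hz : orderOf z = 2)
    (hJ : Cfsg.IsExtraspecial 2 ↥(Cfsg.pCore 2 ↥(Subgroup.centralizer ({z} : Set G))))
    (hJc : Nat.card ↥(Cfsg.pCore 2 ↥(Subgroup.centralizer ({z} : Set G))) = 2 ^ 9)
    (hCJ : Subgroup.centralizer ((Cfsg.pCore 2 ↥(Subgroup.centralizer ({z} : Set G))) :
      Set ↥(Subgroup.centralizer ({z} : Set G))) ≤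
      Cfsg.pCore 2 ↥(Subgroup.centralizer ({z} : Set G)))
    [hJn : (Cfsg.pCore 2 ↥(Subgroup.centralizer ({z} : Set G))).Normal]
    (e : (↥(Subgroup.centralizer ({z} : Set G)) ⧸ Cfsg.pCore 2 ↥(Subgroup.centralizer ({z} : Set G))) ≃*
      Cfsg.PSp 2 F) :
    ∃ π : ↥(Subgroup.centralizer ({z} : Set G)) →* Cfsg.PSp 2 F,
      Base z ((Cfsg.pCore 2 ↥(Subgroup.centralizer ({z} : Set G))).map
      (Subgroup.centralizer ({z} : Set G)).subtype) π := by
  classical
  set C := Subgroup.centralizer ({z} : Set G) with hC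
  set J := Cfsg.pCore 2 ↥C with hJdef
  have hzC : z ∈ C := Subgroup.mem_centralizer_singleton_iff.2 rfl
  have hz2 : z * z = 1 := by rw [← pow_two, ← hz, pow_orderOf_eq_one]
  have hz1 : z ≠ 1 := fun h => by rw [h, orderOf_one] at hz; omega
  have hzJ : (⟨z, hzC⟩ : C) ∈ J := hCJ (Subgroup.mem_centralizer_iff.2 fun a _ =>
    Subtype.ext (Subgroup.mem_centralizer_singleton_iff.1 a.2))
  have hmem : ∀ {a : G}, a ∈ J.map C.subtype ↔ ∃ h : a ∈ C, (⟨a, h⟩ : C) ∈ J := fun {a} =>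
    ⟨fun ⟨x, hx, hxa⟩ => hxa ▸ ⟨x.2, hx⟩, fun ⟨h, ha⟩ => ⟨_, ha, rfl⟩⟩
  have := Fact.mk Nat.prime_two
  set zJ : J := ⟨⟨z, hzC⟩, hzJ⟩ with hzJd
  have hzc : zJ ∈ Subgroup.center J := Subgroup.mem_center_iff.2 fun a =>
    Subtype.ext (Subtype.ext (Subgroup.mem_centralizer_singleton_iff.1 a.1.2))
  have hcen : ∀ a : J, a ∈ Subgroup.center J → a = 1 ∨ a = zJ := by
    intro a ha
    have h2 : Nat.card (Subgroup.center J) = 2 := hJ.2
    obtain ⟨y, hy, huniq⟩ := (Nat.card_eq_two_iff' (1 : Subgroup.center J)).1 h2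
    have hne : (⟨zJ, hzc⟩ : Subgroup.center J) ≠ 1 := fun h =>
      hz1 (congrArg (fun w : Subgroup.center J => (((w : J) : C) : G)) h)
    by_cases h1 : a = 1
    · exact Or.inl h1
    · refine Or.inr (congrArg Subtype.val ((huniq ⟨a, ha⟩ fun h => h1 ?_).trans
        (huniq ⟨zJ, hzc⟩ hne).symm))
      exact congrArg Subtype.val h
  refine ⟨(e.toMonoidHom).comp (QuotientGroup.mk' J), hF, hz2, hz1, ?_, ?_, ?_, ?_, ?_, ?_, ?_, ?_,
    e.surjective.comp QuotientGroup.mk_surjective, ?_, ?_⟩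
  · exact Subgroup.map_subtype_le _
  · exact hmem.2 ⟨hzC, hzJ⟩
  · rw [← Nat.card_congr (Subgroup.equivMapOfInjective _ _ C.subtype_injective).toEquiv]
    exact hJc
  · intro g hg j hj
    obtain ⟨hjC, hjJ⟩ := hmem.1 hj
    exact ⟨⟨g, hg⟩ * ⟨j, hjC⟩ * ⟨g, hg⟩⁻¹, hJn.conj_mem _ hjJ ⟨g, hg⟩, rfl⟩
  · intro a ha
    obtain ⟨haC, haJ⟩ := hmem.1 ha
    have h1 : (⟨⟨a, haC⟩, haJ⟩ : J) ^ 2 ∈ Subgroup.center J :=
      H6.extraspecial_pow_mem_center hJ _
    rcases hcen _ h1 with h | h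
    · left
      have := congrArg (fun w : J => ((w : C) : G)) h
      simpa [pow_two] using this
    · right
      have := congrArg (fun w : J => ((w : C) : G)) h
      simpa [pow_two, hzJd] using this
  · intro a ha b hb
    obtain ⟨haC, haJ⟩ := hmem.1 ha
    obtain ⟨hbC, hbJ⟩ := hmem.1 hb
    set A : J := ⟨⟨a, haC⟩, haJ⟩
    set B : J := ⟨⟨b, hbC⟩, hbJ⟩
    have h1 : A⁻¹ * B⁻¹ * A * B ∈ Subgroup.center J := by
      have := H6.extraspecial_commutator_mem_center hJ A⁻¹ B⁻¹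
      simpa [commutatorElement_def] using this
    rcases hcen _ h1 with h | h
    · left
      have h' := congrArg (fun w : J => ((w : C) : G)) h
      simp [A, B] at h'
      calc a * b = b * a * (a⁻¹ * b⁻¹ * a * b) := by group
        _ = b * a := by rw [h', mul_one]
    · right
      have h' := congrArg (fun w : J => ((w : C) : G)) h
      simp [A, B, hzJd] at h'
      calc a * b = b * a * (a⁻¹ * b⁻¹ * a * b) := by group
        _ = b * a * z := by rw [h']
  · intro a ha hall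
    obtain ⟨haC, haJ⟩ := hmem.1 ha
    rcases hcen ⟨⟨a, haC⟩, haJ⟩ (Subgroup.mem_center_iff.2 fun b => Subtype.ext (Subtype.ext
      (hall _ (hmem.2 ⟨b.1.2, b.2⟩)).eq.symm)) with h | h
    · left; exact congrArg (fun w : J => ((w : C) : G)) h
    · right; exact congrArg (fun w : J => ((w : C) : G)) h
  · intro g hg hall
    exact hmem.2 ⟨hg, hCJ (Subgroup.mem_centralizer_iff.2 fun b hb => Subtype.ext
      (hall _ (hmem.2 ⟨b.2, hb⟩)).eq.symm)⟩
  · intro g
    show e (g : C ⧸ J) = 1 ↔ _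
    rw [map_eq_one_iff e e.injective, QuotientGroup.eq_one_iff]
    exact ⟨fun h => hmem.2 ⟨g.2, h⟩, fun h => (hmem.1 h).2⟩
  · rw [Subgroup.card_eq_card_quotient_mul_card_subgroup J, Nat.card_congr e.toEquiv, hJc,
      card_psp2 hF, mul_comm]

theorem mul_core_of_wc {z : G} (hz : orderOf z = 2) (h : WC z) :
    Subgroup.centralizer ({z} : Set G) ⊔ Cfsg.oddCore G = ⊤ := by
  have hiso : Cfsg.IsIsolatedInvolution z := ⟨hz, fun g hg =>
    h _ (Subgroup.mem_centralizer_singleton_iff.2 hg.eq.symm) (isConj_iff.2 ⟨g, rfl⟩)⟩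
  have hN := H85.zStar hiso
  have hodd : Odd (Nat.card (Cfsg.oddCore G)) :=
    Nat.coprime_two_right.1 (H1.card_pPrimeCore_coprime 2 G)
  have hz2 : z * z = 1 := by rw [← pow_two, ← hz, pow_orderOf_eq_one]
  have hzi : z⁻¹ = z := inv_eq_of_mul_eq_one_right hz2
  rw [eq_top_iff]
  intro g _
  set n := g * z * g⁻¹ * z with hn
  have hnN : n ∈ Cfsg.oddCore G := by
    have h1 := inv_mem (hN g)
    have : (z * g * z⁻¹ * g⁻¹)⁻¹ = n := by
      rw [hn, mul_inv_rev, mul_inv_rev, mul_inv_rev, inv_inv, inv_inv, hzi]; simp only [mul_assoc]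
    rwa [this] at h1
  have hnz : g * z * g⁻¹ = n * z := by rw [hn, mul_assoc _ z z, hz2, mul_one]
  have hinv : z * n * z⁻¹ = n⁻¹ := by
    have h2 : n * z * (n * z) = 1 := by
      rw [← hnz, show g * z * g⁻¹ * (g * z * g⁻¹) = g * (z * z) * g⁻¹ by group, hz2, mul_one,
        mul_inv_cancel]
    rw [hzi, ← mul_eq_one_iff_eq_inv]
    calc z * n * z * n = z * (n * z * (n * z)) * z⁻¹ := by group
      _ = 1 := by rw [h2, mul_one, mul_inv_cancel]
  obtain ⟨k, hk⟩ := hodd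
  set m := n ^ (k + 1) with hm
  have hm2 : m * m = n := by
    rw [hm, ← pow_add, show k + 1 + (k + 1) = Nat.card (Cfsg.oddCore G) + 1 by omega, pow_succ]
    have : n ^ Nat.card (Cfsg.oddCore G) = 1 :=
      congrArg Subtype.val (pow_card_eq_one' (x := (⟨n, hnN⟩ : Cfsg.oddCore G)))
    rw [this, one_mul]
  have hzm : z * m * z⁻¹ = m⁻¹ := by rw [hm, ← conj_pow, hinv, inv_pow]
  have hc : m⁻¹ * g ∈ Subgroup.centralizer ({z} : Set G) := by
    rw [Subgroup.mem_centralizer_singleton_iff]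
    have h3 : m * z * m⁻¹ = n * z := by
      have h4 : z * m⁻¹ * z⁻¹ = m := by
        rw [show z * m⁻¹ * z⁻¹ = (z * m * z⁻¹)⁻¹ by group, hzm, inv_inv]
      calc m * z * m⁻¹ = m * (z * m⁻¹ * z⁻¹) * z := by group
        _ = n * z := by rw [h4, hm2]
    calc m⁻¹ * g * z = m⁻¹ * (g * z * g⁻¹) * g := by group
      _ = m⁻¹ * (m * z * m⁻¹) * g := by rw [hnz, h3]
      _ = z * (m⁻¹ * g) := by group
  have := Subgroup.mul_mem_sup (pow_mem hnN (k + 1)) hc
  rw [← hm, mul_inv_cancel_left] at this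
  rwa [sup_comm]

/-- The recognition from the parts. -/
theorem of_parts (P : Parts.{u, v}) {F : Type v} [Field F] [Fintype F] (hF : Fintype.card F = 3)
    {K : Type w} [Field K] [Fintype K] (hK : Fintype.card K = 4) (z : G) (hz : orderOf z = 2)
    (hJ : Cfsg.IsExtraspecial 2 ↥(Cfsg.pCore 2 ↥(Subgroup.centralizer ({z} : Set G))))
    (hJc : Nat.card ↥(Cfsg.pCore 2 ↥(Subgroup.centralizer ({z} : Set G))) = 2 ^ 9)
    (hCJ : Subgroup.centralizer ((Cfsg.pCore 2 ↥(Subgroup.centralizer ({z} : Set G))) :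
      Set ↥(Subgroup.centralizer ({z} : Set G))) ≤
      Cfsg.pCore 2 ↥(Subgroup.centralizer ({z} : Set G)))
    [hJn : (Cfsg.pCore 2 ↥(Subgroup.centralizer ({z} : Set G))).Normal]
    (e : (↥(Subgroup.centralizer ({z} : Set G)) ⧸ Cfsg.pCore 2 ↥(Subgroup.centralizer ({z} : Set G))) ≃*
      Cfsg.PSp 2 F) :
    Nonempty (G ≃* Cfsg.PSU 6 K 2) ∨ Subgroup.centralizer ({z} : Set G) ⊔ Cfsg.oddCore G = ⊤ := by
  obtain ⟨hMod, hWCJ, hFix8, hFixed, hLoc⟩ := P
  obtain ⟨π, hB⟩ := base_of_hyp hF z hz hJ hJc hCJ e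
  by_cases hwc : WC z
  · exact Or.inr (mul_core_of_wc hz hwc)
  rcases hMod hB with ⟨φ, ρ, hN⟩ | ⟨U, hU⟩
  · obtain ⟨pt, hL⟩ := hLoc hN (hWCJ hN) hwc
    obtain ⟨-, F', f1, f2, hF', ⟨iso⟩⟩ := H24.U6.recognition hL
    obtain ⟨ψ⟩ : Nonempty (F' ≃+* K) :=
      ⟨FiniteField.ringEquivOfCardEq (by rw [hF', hK])⟩
    let es := H64.suCongr 6 2 ψ
    have hc : (Subgroup.center ↥(Cfsg.SU 6 F' 2)).map es.toMonoidHom =
        Subgroup.center ↥(Cfsg.SU 6 K 2) := by
      ext x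
      rw [Subgroup.mem_map]
      constructor
      · rintro ⟨y, hy, rfl⟩
        refine Subgroup.mem_center_iff.2 fun g => ?_
        obtain ⟨k, rfl⟩ := es.surjective g
        show es k * es y = es y * es k
        rw [← map_mul, ← map_mul, Subgroup.mem_center_iff.1 hy k]
      · intro hx
        obtain ⟨y, rfl⟩ := es.surjective x
        refine ⟨y, Subgroup.mem_center_iff.2 fun k => es.injective ?_, rfl⟩
        rw [map_mul, map_mul]
        exact Subgroup.mem_center_iff.1 hx (es k)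
    exact Or.inl ⟨iso.trans (QuotientGroup.congr _ _ es hc)⟩
  · obtain ⟨m, φ, ρ, h8⟩ := hFix8 hB hU
    exact absurd (hFixed h8) hwc

end H38.U6C
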