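import Cfsg.Agent.H38.U6C.Basic

/-!
The model for the case with two fixed dimensions: bits `0..5` carry the quadratic form of minus
type `x₀x₁ + x₂x₃ + x₄² + x₄x₅ + x₅²`, bits `6, 7` the fixed plane with the form `x₆x₇`, or
`x₆² + x₆x₇ + x₇²` if `m` holds.
-/

set_option autoImplicit false
set_option maxRecDepth 100000

namespace H38.U6C

/-- The bit of index `i`. -/
def bit8 (a : V) (i : ℕ) : Bool := a.val.testBit i

/-- The quadratic form on the first six bits. -/
def q6 (a : V) : Bool :=
  ((bit8 a 0 && bit8 a 1) != (bit8 a 2 && bit8 a 3)) != (bit8 a 4 || bit8 a 5)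

/-- The quadratic form. -/
def q8 (m : Bool) (a : V) : Bool :=
  q6 a != (if m then bit8 a 6 || bit8 a 7 else bit8 a 6 && bit8 a 7)

/-- Its alternating form. -/
def pol8 (m : Bool) (a b : V) : Bool := q8 m (vadd a b) != (q8 m a != q8 m b)

/-- The alternating form of the first six bits. -/
def pol6 (a b : V) : Bool := q6 (vadd a b) != (q6 a != q6 b)

/-- The vectors defining reflections: the 36 non-singular vectors of the six-dimensional part. -/
def IsRefVec (a : V) : Prop := a.val < 64 ∧ q6 a = true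

instance (a : V) : Decidable (IsRefVec a) := inferInstanceAs (Decidable (_ ∧ _))

/-- The reflection in `a`. -/
def refFun (a v : V) : V := if IsRefVec a ∧ pol6 a v = true then vadd v a else v

theorem refFun_invol : ∀ a v, refFun a (refFun a v) = v := by decide +kernel

/-- The reflection as a permutation. -/
def refl8 (a : V) : Equiv.Perm V := ⟨refFun a, refFun a, refFun_invol a, refFun_invol a⟩

/-- The group induced by the centraliser: products of two reflections. -/
def oGroup : Subgroup (Equiv.Perm V) :=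
  Subgroup.closure {s | ∃ a b, IsRefVec a ∧ IsRefVec b ∧ s = refl8 a * refl8 b}

variable {G : Type*} [Group G]

/-- The involution centraliser read on the module with a fixed plane. -/
structure Fix8 (z : G) (J : Subgroup G) (m : Bool) (φ : G → V)
    (ρ : ↥(Subgroup.centralizer ({z} : Set G)) →* Equiv.Perm V) : Prop where
  sq : z * z = 1
  ne_one : z ≠ 1
  le_cent : J ≤ Subgroup.centralizer ({z} : Set G)
  z_mem : z ∈ J
  card_J : Nat.card J = 2 ^ 9
  conj_mem : ∀ g ∈ Subgroup.centralizer ({z} : Set G), ∀ j ∈ J, g * j * g⁻¹ ∈ J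
  φ_mul : ∀ a ∈ J, ∀ b ∈ J, φ (a * b) = vadd (φ a) (φ b)
  φ_surj : ∀ v, ∃ a ∈ J, φ a = v
  φ_ker : ∀ a ∈ J, (φ a = 0 ↔ a = 1 ∨ a = z)
  φ_sq : ∀ a ∈ J, a * a = if q8 m (φ a) then z else 1
  φ_comm : ∀ a ∈ J, ∀ b ∈ J, a * b = b * a * if pol8 m (φ a) (φ b) then z else 1
  ρ_φ : ∀ (g : ↥(Subgroup.centralizer ({z} : Set G))) (j : G), j ∈ J →
    φ ((g : G) * j * (g : G)⁻¹) = ρ g (φ j)
  ρ_ker : ∀ g : ↥(Subgroup.centralizer ({z} : Set G)), ρ g = 1 ↔ (g : G) ∈ J
  ρ_range : ρ.range = oGroup
  card_cent : Nat.card (Subgroup.centralizer ({z} : Set G)) = 2 ^ 9 * 25920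

end H38.U6C
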