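import Cfsg.Agent.H38.U6C.Basic
import Cfsg.Agent.H38.U6C.Fix8
import Cfsg.Prelude.Def_Classical

/-!
The statements of the separate parts of the recognition.
-/

set_option autoImplicit false

namespace H38.U6C

universe u v

/-- The module is natural, or has two fixed dimensions (helper50). -/
def ModuleStmt : Prop :=
  ∀ {G : Type u} [Group G] [Finite G] {F : Type v} [Field F] [Fintype F] {z : G} {J : Subgroup G}
    {π : ↥(Subgroup.centralizer ({z} : Set G)) →* Cfsg.PSp 2 F}, Base z J π →
    (∃ (φ : G → V) (ρ : ↥(Subgroup.centralizer ({z} : Set G)) →* Equiv.Perm V), Nat4 z J φ ρ) ∨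
      ∃ U : Subgroup G, Fixed2 z J U

/-- In the natural case the involution is weakly closed in its core (helper55). -/
def WCJStmt : Prop :=
  ∀ {G : Type u} [Group G] [Finite G] {z : G} {J : Subgroup G} {φ : G → V}
    {ρ : ↥(Subgroup.centralizer ({z} : Set G)) →* Equiv.Perm V}, Nat4 z J φ ρ → WCJ z J

/-- The case with fixed dimensions read on the model (helper46). -/
def Fix8Stmt : Prop :=
  ∀ {G : Type u} [Group G] [Finite G] {F : Type v} [Field F] [Fintype F] {z : G} {J U : Subgroup G}
    {π : ↥(Subgroup.centralizer ({z} : Set G)) →* Cfsg.PSp 2 F}, Base z J π → Fixed2 z J U →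
    ∃ (m : Bool) (φ : G → V) (ρ : ↥(Subgroup.centralizer ({z} : Set G)) →* Equiv.Perm V),
      Fix8 z J m φ ρ

/-- In the case with fixed dimensions the involution is weakly closed (helper18). -/
def FixedStmt : Prop :=
  ∀ {G : Type u} [Group G] [Finite G] {z : G} {J : Subgroup G} {m : Bool} {φ : G → V}
    {ρ : ↥(Subgroup.centralizer ({z} : Set G)) →* Equiv.Perm V}, Fix8 z J m φ ρ → WC z

/-- In the natural case the local data of the unitary group hold (helper82). -/
def LocStmt : Prop :=
  ∀ {G : Type u} [Group G] [Finite G] {z : G} {J : Subgroup G} {φ : G → V}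
    {ρ : ↥(Subgroup.centralizer ({z} : Set G)) →* Equiv.Perm V}, Nat4 z J φ ρ → WCJ z J → ¬ WC z →
    ∃ pt : G → Fin 45, H16.U6.Loc z pt

/-- All parts. -/
def Parts : Prop :=
  ModuleStmt.{u, v} ∧ WCJStmt.{u} ∧ Fix8Stmt.{u, v} ∧ FixedStmt.{u} ∧ LocStmt.{u}

end H38.U6C
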