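import Cfsg.Agent.H38.U6C.Main

/-!
The recognition, with the fixed case settled from the hypotheses directly.
-/

set_option autoImplicit false

namespace H38.U6C

open Cfsg

universe u v w

/-- With fixed dimensions the involution is weakly closed in its centraliser. -/
def FixedDirectStmt : Prop :=
  ∀ {G : Type u} [Group G] [Finite G] {F : Type v} [Field F] [Fintype F] {z : G} {J U : Subgroup G}
    {π : ↥(Subgroup.centralizer ({z} : Set G)) →* Cfsg.PSp 2 F}, Base z J π → Fixed2 z J U → WC z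

variable {G : Type u} [Group G] [Finite G]

/-- The recognition with the fixed case settled directly. -/
theorem of_direct (hMod : ModuleStmt.{u, v}) (hWCJ : WCJStmt.{u}) (hLoc : LocStmt.{u})
    (hFix : FixedDirectStmt.{u, v}) {F : Type v} [Field F] [Fintype F] (hF : Fintype.card F = 3)
    {K : Type w} [Field K] [Fintype K] (hK : Fintype.card K = 4) (z : G) (hz : orderOf z = 2)
    (hJ : Cfsg.IsExtraspecial 2 ↥(Cfsg.pCore 2 ↥(Subgroup.centralizer ({z} : Set G))))
    (hJc : Nat.card ↥(Cfsg.pCore 2 ↥(Subgroup.centralizer ({z} : Set G))) = 2 ^ 9)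
    (hCJ : Subgroup.centralizer ((Cfsg.pCore 2 ↥(Subgroup.centralizer ({z} : Set G))) :
      Set ↥(Subgroup.centralizer ({z} : Set G))) ≤
      Cfsg.pCore 2 ↥(Subgroup.centralizer ({z} : Set G)))
    [hJn : (Cfsg.pCore 2 ↥(Subgroup.centralizer ({z} : Set G))).Normal]
    (e : (↥(Subgroup.centralizer ({z} : Set G)) ⧸ Cfsg.pCore 2 ↥(Subgroup.centralizer ({z} : Set G))) ≃*
      Cfsg.PSp 2 F) :
    Nonempty (G ≃* Cfsg.PSU 6 K 2) ∨ Subgroup.centralizer ({z} : Set G) ⊔ Cfsg.oddCore G = ⊤ := by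
  obtain ⟨π, hB⟩ := base_of_hyp hF z hz hJ hJc hCJ e
  by_cases hwc : WC z
  · exact Or.inr (mul_core_of_wc hz hwc)
  rcases hMod hB with ⟨φ, ρ, hN⟩ | ⟨U, hU⟩
  · obtain ⟨pt, hL⟩ := hLoc hN (hWCJ hN) hwc
    obtain ⟨-, F', f1, f2, hF', ⟨iso⟩⟩ := H24.U6.recognition hL
    obtain ⟨ψ⟩ : Nonempty (F' ≃+* K) :=
      ⟨FiniteField.ringEquivOfCardEq (by rw [hF', hK])⟩
    let es := H64.suCongr 6 2 ψ
    have hc : (Subgroup.center ↥(Cfsg.SU 6 F' 2)).map es.toMonoidHom =
        Subgroup.center ↥(Cfsg.SU 6 K 2) := by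
      ext x
      rw [Subgroup.mem_map]
      constructor
      · rintro ⟨y, hy, rfl⟩
        refine Subgroup.mem_center_iff.2 fun g => ?_
        obtain ⟨k, rfl⟩ := es.surjective g
        show es k * es y = es y * es k
        rw [← map_mul, ← map_mul, Subgroup.mem_center_iff.1 hy k]
      · intro hx
        obtain ⟨y, rfl⟩ := es.surjective x
        refine ⟨y, Subgroup.mem_center_iff.2 fun k => es.injective ?_, rfl⟩
        rw [map_mul, map_mul]
        exact Subgroup.mem_center_iff.1 hx (es k)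
    exact Or.inl ⟨iso.trans (QuotientGroup.congr _ _ es hc)⟩
  · exact absurd (hFix hB hU) hwc

end H38.U6C
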