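import Cfsg.Agent.H55.U6C.Fixed
import Cfsg.Agent.H55.U6C.FixedWcj
import Cfsg.Agent.H38.U6C.Direct

/-!
The fixed case, from the weak closure results.
-/

set_option autoImplicit false

namespace H38.U6C

universe u v

/-- With two fixed dimensions the involution is weakly closed in its centraliser. -/
theorem fixedDirect : FixedDirectStmt.{u, v} := fun b f2 =>
  H55.U6C.wc_of_fixed2 b (H55.U6C.Fx.wcj_fixed b f2) f2

end H38.U6C
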