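import Cfsg.Agent.H16.Fi24.U6Loc
import Cfsg.Prelude.Def_Classical
import Mathlib

/-!
Interfaces for the recognition of the unitary group in dimension six from an involution centraliser
of shape `2^(1+8).U₄(2)`: the natural module as `Fin 256` (two bits for each of four coordinates
over the field with four elements, bit 0 for `1` and bit 1 for `ω`; addition is exclusive or), the
hermitian form being the sum of norms; the 45 isotropic points in the order of `H16.U6.adjMask`.
-/

set_option autoImplicit false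
set_option maxRecDepth 100000

namespace H38.U6C

/-- Vectors of the natural module. -/
abbrev V := Fin 256

/-- Addition. -/
def vadd (a b : V) : V := ⟨Nat.xor a.val b.val % 256, Nat.mod_lt _ (by norm_num)⟩

/-- Multiplication of the field with four elements. -/
def fmul (a b : ℕ) : ℕ := (![![0, 0, 0, 0], ![0, 1, 2, 3], ![0, 2, 3, 1], ![0, 3, 1, 2]]
  ⟨a % 4, Nat.mod_lt _ (by norm_num)⟩ : Fin 4 → ℕ) ⟨b % 4, Nat.mod_lt _ (by norm_num)⟩

/-- Conjugation of the field with four elements. -/
def fconj (a : ℕ) : ℕ := (![0, 1, 3, 2] : Fin 4 → ℕ) ⟨a % 4, Nat.mod_lt _ (by norm_num)⟩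

/-- The coordinate of index `i`. -/
def coord (a : V) (i : ℕ) : ℕ := a.val / 4 ^ i % 4

/-- Scalar multiple. -/
def smul4 (c : ℕ) (a : V) : V := ⟨(fmul c (coord a 0) + 4 * fmul c (coord a 1) + 16 * fmul c (coord a 2)
  + 64 * fmul c (coord a 3)) % 256, Nat.mod_lt _ (by norm_num)⟩

/-- The hermitian form, semilinear in the first variable. -/
def herm (a b : V) : ℕ := Nat.xor (Nat.xor (fmul (fconj (coord a 0)) (coord b 0))
  (fmul (fconj (coord a 1)) (coord b 1))) (Nat.xor (fmul (fconj (coord a 2)) (coord b 2))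
  (fmul (fconj (coord a 3)) (coord b 3)))

/-- The quadratic form: the hermitian norm. -/
def qv (a : V) : Bool := herm a a == 1

/-- The alternating form: the trace of the hermitian form. -/
def pol (a b : V) : Bool := 2 ≤ herm a b

/-- Representatives of the 45 isotropic points. -/
def pnt (i : Fin 45) : V :=
  ![80, 144, 208, 68, 132, 196, 20, 36, 52, 65, 129, 193, 17, 33, 49, 5, 85, 149, 213, 101, 165,
    229, 117, 181, 245, 9, 89, 153, 217, 105, 169, 233, 121, 185, 249, 13, 93, 157, 221, 109, 173,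
    237, 125, 189, 253] i

/-- The transvection with centre `pnt i`. -/
def tvFun (i : Fin 45) (a : V) : V := vadd a (smul4 (herm (pnt i) a) (pnt i))

theorem tvFun_invol : ∀ i a, tvFun i (tvFun i a) = a := by decide +kernel

/-- The transvection as a permutation. -/
def tv (i : Fin 45) : Equiv.Perm V := ⟨tvFun i, tvFun i, tvFun_invol i, tvFun_invol i⟩

/-- The unitary group, generated by the transvections. -/
def uGroup : Subgroup (Equiv.Perm V) := Subgroup.closure (Set.range tv)

variable {G : Type*} [Group G]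

/-- The involution centraliser read on the natural module: `φ` identifies the core `J` modulo
`⟨z⟩` with the module, `ρ` is the action of the centraliser. -/
structure Nat4 (z : G) (J : Subgroup G) (φ : G → V)
    (ρ : ↥(Subgroup.centralizer ({z} : Set G)) →* Equiv.Perm V) : Prop where
  sq : z * z = 1
  ne_one : z ≠ 1
  le_cent : J ≤ Subgroup.centralizer ({z} : Set G)
  z_mem : z ∈ J
  card_J : Nat.card J = 2 ^ 9
  conj_mem : ∀ g ∈ Subgroup.centralizer ({z} : Set G), ∀ j ∈ J, g * j * g⁻¹ ∈ J
  φ_mul : ∀ a ∈ J, ∀ b ∈ J, φ (a * b) = vadd (φ a) (φ b)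
  φ_surj : ∀ v, ∃ a ∈ J, φ a = v
  φ_ker : ∀ a ∈ J, (φ a = 0 ↔ a = 1 ∨ a = z)
  φ_sq : ∀ a ∈ J, a * a = if qv (φ a) then z else 1
  φ_comm : ∀ a ∈ J, ∀ b ∈ J, a * b = b * a * if pol (φ a) (φ b) then z else 1
  ρ_φ : ∀ (g : ↥(Subgroup.centralizer ({z} : Set G))) (j : G), j ∈ J →
    φ ((g : G) * j * (g : G)⁻¹) = ρ g (φ j)
  ρ_ker : ∀ g : ↥(Subgroup.centralizer ({z} : Set G)), ρ g = 1 ↔ (g : G) ∈ J
  ρ_range : ρ.range = uGroup
  card_cent : Nat.card (Subgroup.centralizer ({z} : Set G)) = 2 ^ 9 * 25920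

/-- The alternative: two dimensions of the core modulo `⟨z⟩` are fixed by the whole centraliser. -/
structure Fixed2 (z : G) (J U : Subgroup G) : Prop where
  le : U ≤ J
  z_mem : z ∈ U
  card : Nat.card U = 8
  nondeg : ∀ u ∈ U, (∀ v ∈ U, Commute u v) → u = 1 ∨ u = z
  fix : ∀ g ∈ Subgroup.centralizer ({z} : Set G), ∀ u ∈ U, g * u * g⁻¹ = u ∨ g * u * g⁻¹ = u * z

/-- `z` has no other conjugate in `J`. -/
def WCJ (z : G) (J : Subgroup G) : Prop := ∀ a ∈ J, IsConj z a → a = z

/-- `z` has no other conjugate commuting with it. -/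
def WC (z : G) : Prop := ∀ a ∈ Subgroup.centralizer ({z} : Set G), IsConj z a → a = z

/-- The hypotheses: an involution whose centraliser has an extraspecial self-centralising normal
subgroup `J` of order `2^9` with quotient, by `π`, the projective symplectic group of dimension
four over the field `F` with three elements. -/
structure Base {F : Type*} [Field F] [Fintype F] (z : G) (J : Subgroup G)
    (π : ↥(Subgroup.centralizer ({z} : Set G)) →* Cfsg.PSp 2 F) : Prop where
  card_F : Fintype.card F = 3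
  sq : z * z = 1
  ne_one : z ≠ 1
  le_cent : J ≤ Subgroup.centralizer ({z} : Set G)
  z_mem : z ∈ J
  card_J : Nat.card J = 2 ^ 9
  conj_mem : ∀ g ∈ Subgroup.centralizer ({z} : Set G), ∀ j ∈ J, g * j * g⁻¹ ∈ J
  sq_mem : ∀ a ∈ J, a * a = 1 ∨ a * a = z
  comm_mem : ∀ a ∈ J, ∀ b ∈ J, a * b = b * a ∨ a * b = b * a * z
  center : ∀ a ∈ J, (∀ b ∈ J, Commute a b) → a = 1 ∨ a = z
  self_cent : ∀ g ∈ Subgroup.centralizer ({z} : Set G), (∀ j ∈ J, Commute g j) → g ∈ J
  π_surj : Function.Surjective π
  π_ker : ∀ g : ↥(Subgroup.centralizer ({z} : Set G)), π g = 1 ↔ (g : G) ∈ J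
  card_cent : Nat.card (Subgroup.centralizer ({z} : Set G)) = 2 ^ 9 * 25920

end H38.U6C
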